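import Groth.Agent.Lib.DualTensor11.Basic
import Groth.Agent.Lib.CurveSerre11.InvHom
import Groth.Agent.Lib.RelVan7.Bundle
import Groth.Agent.Lib.LM28.Precomp
import Groth.Agent.Lib.OX.Exact
import Groth.Agent.Lib.MLSupp9.Basic
import Groth.Agent.Lib.OmegaFree.Basic
import Groth.Agent.Lib.InvDual.Basic
import Groth.Agent.Lib.CMReg.Free
import Groth.Agent.Lib.OX.LocFreeTensor

/-! # Embedding reflexive modules into sums of powers of an ample module -/

set_option autoImplicit false
set_option linter.all false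
set_option backward.isDefEq.respectTransparency false
set_option maxHeartbeats 1000000
universe u

open CategoryTheory CategoryTheory.Limits AlgebraicGeometry
open RefHull (homSh dual stalkMapₗ evalStalk)

noncomputable section

namespace Groth.Agent.DualEmbed29

open GrothLib GrothLib.QCoh

attribute [local instance] Abelian.hasFiniteBiproducts LocFreeHom.hasSheafHom

variable {X : Scheme.{u}} [IsLocallyNoetherian X]

local notation "O" => Coh.structureModule X

omit [IsLocallyNoetherian X] in
/-- Precomposition with an isomorphism. -/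
def precompIso {A B : X.Modules} (e : A ≅ B) (G : X.Modules) : homSh B G ≅ homSh A G :=
  ⟨LM28.precomp e.hom G, LM28.precomp e.inv G,
    by rw [← LM28.precomp_comp, Iso.inv_hom_id, LM28.precomp_id],
    by rw [← LM28.precomp_comp, Iso.hom_inv_id, LM28.precomp_id]⟩

theorem isInvertible_dual {L : X.Modules} (hL : PicF.IsInvertible L) : PicF.IsInvertible (dual L) := by
  obtain ⟨c, ⟨d⟩⟩ := Ample.exists_cocycle hL
  obtain ⟨a⟩ := c.nonempty_dual_iso d
  exact c.dinv.isInvertible_of_iso a

theorem isInverseOf_dual {L : X.Modules} (hL : PicF.IsInvertible L) :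
    ClSub.IsInverseOf L (dual L) := by
  have hl := Euler.isCoh_of_isFinLocFree (LocFreeHom.isFinLocFree_of_isInvertible hL)
  have hO := HomSh.isCoh_structureModule X
  let t : CohB1.tensorMod O L ≅ L := OX.tensorUnitLeftIso L
  obtain ⟨a⟩ := CurveSerre11.nonempty_homSh_invertible hl hL
  obtain ⟨b⟩ := CurveSerre11.nonempty_homSh_tensor_invertible hO hL (QCoh.isCoh_of_iso t.symm hl)
  obtain ⟨u⟩ := DualTensor11.nonempty_dual_unit (X := X)
  exact ⟨LocFreeDual20.br L (dual L) ≪≫ a.symm ≪≫ precompIso t L ≪≫ b ≪≫ u⟩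

/-- Negative twists, dualized. -/
theorem exists_dual_twists {L : X.Modules} (hL : PicF.IsInvertible L) (b a : ℕ) :
    Nonempty (dual (CohB1.tensorMod (FlatMod.freeMod X b) (CohB1.tensorPow (dual L) a)) ≅
      ∐ fun _ : Fin b => CohB1.tensorPow L a) := by
  have hl := LocFreeHom.isFinLocFree_of_isInvertible hL
  have hd := DualTensor11.isFinLocFree_dual hl
  let e : CohB1.tensorMod (FlatMod.freeMod X b) (CohB1.tensorPow (dual L) a) ≅
      ∐ fun _ : Fin b => CohB1.tensorPow (dual L) a :=
    CMReg.tensorSigmaIso (fun _ : Fin b => O) _ ≪≫ Sigma.mapIso fun _ => OX.tensorUnitLeftIso _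
  obtain ⟨f⟩ := DualTensor11.nonempty_dual_coprod (fun _ : Fin b => CohB1.tensorPow (dual L) a)
  obtain ⟨g⟩ := DualTensor11.nonempty_dual_tensorPow hd a
  obtain ⟨d⟩ := DualTensor11.nonempty_ddual hl
  have hh : ∀ n, Nonempty (CohB1.tensorPow (dual (dual L)) n ≅ CohB1.tensorPow L n) := by
    intro n
    induction n with
    | zero => exact ⟨Iso.refl _⟩
    | succ n ih => exact ih.map fun i => WeilFin11.congrIso i d.symm
  obtain ⟨h⟩ := hh a
  exact ⟨precompIso e.symm O ≪≫ f ≪≫ Sigma.mapIso fun _ => g ≪≫ h⟩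

omit [IsLocallyNoetherian X] in
theorem evalStalk_precomp {A B : X.Modules} (φ : A ⟶ B) (x : X) (θ : (dual B).presheaf.stalk x) :
    evalStalk A O x (stalkLin (LM28.precomp φ O) x θ) = (evalStalk B O x θ).comp (stalkMapₗ φ x) := by
  obtain ⟨U, hx, g, rfl⟩ := TopCat.Presheaf.exists_germ_eq (dual B).presheaf θ
  rw [stalkLin_germ, RefHull.evalStalk_germ, RefHull.evalStalk_germ]
  exact LM28.precomp_app φ O g ⟨x, hx⟩

omit [IsLocallyNoetherian X] in
theorem stalkMap_eq {A B : X.Modules} (φ : A ⟶ B) (x : X) (v : A.presheaf.stalk x) :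
    stalkMapₗ φ x v = stalkLin φ x v := by
  obtain ⟨U, hx, g, rfl⟩ := TopCat.Presheaf.exists_germ_eq A.presheaf v
  rw [stalkLin_germ, RefHull.stalkMapₗ_germ]

omit [IsLocallyNoetherian X] in
theorem stalkLin_epi {A B : X.Modules} (p : A ⟶ B) [Epi p] (x : X) :
    Function.Surjective (stalkLin p x) :=
  (ModuleCat.epi_iff_surjective _).1 ((OX.epi_iff p).1 inferInstance x)

/-- The core: a coherent reflexive module embeds into a dual with cokernel inside a dual. -/
theorem exists_ses {E P K' : X.Modules} (hE : Coh.IsCoh E) (hP : Coh.IsCoh P) (hK' : Coh.IsCoh K')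
    (hPl : FlatMod.IsFinLocFree P) (hEr : ∀ x, RefHull.IsReflexiveAt E x) (p : P ⟶ dual E) [Epi p]
    (k : K' ⟶ P) (hk : k ≫ p = 0)
    (hex : ∀ (x : X) (v : P.presheaf.stalk x), stalkLin p x v = 0 → ∃ u, stalkLin k x u = v) :
    ∃ (E' : X.Modules) (i : E ⟶ dual P) (π : dual P ⟶ E') (w : i ≫ π = 0) (j : E' ⟶ dual K'),
      (ShortComplex.mk i π w).ShortExact ∧ Mono j ∧ Coh.IsCoh E' ∧
      (FlatMod.IsFinLocFree E → FlatMod.IsFinLocFree E') := by
  have hEd := HomSh.isCoh_dual (HomSh.hasRel_of_isCoh hE)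
  have hPd := HomSh.isCoh_dual (HomSh.hasRel_of_isCoh hP)
  have hKd := HomSh.isCoh_dual (HomSh.hasRel_of_isCoh hK')
  haveI : IsIso (RefHull.bidualMap E) := (HomSh.isReflexive_iff (HomSh.hasRel_of_isCoh hE)).2 hEr
  let P' := LM28.precomp p O
  let q := LM28.precomp k O
  let i : E ⟶ dual P := RefHull.bidualMap E ≫ P'
  have hq : P' ≫ q = 0 := by
    rw [← LM28.precomp_comp, hk]
    exact (LM28.precompHom K' (dual E) O).map_zero
  let π := Abelian.factorThruImage q
  have w : i ≫ π = 0 := by
    rw [← cancel_mono (Abelian.image.ι q), zero_comp, Category.assoc, Abelian.image.fac,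
      Category.assoc, hq, comp_zero]
  have hP'inj : ∀ x, Function.Injective (stalkLin P' x) := fun x θ θ' h => by
    refine ((HomSh.hasRel_of_isCoh hEd).evalStalk_bijective O x).1 (LinearMap.ext fun v => ?_)
    obtain ⟨u, rfl⟩ := stalkLin_epi p x v
    have h' := congrArg (fun t => evalStalk P O x t u) h
    simp only [P', evalStalk_precomp, LinearMap.comp_apply, stalkMap_eq] at h'
    exact h'
  have hexact : ∀ (x : X) (θ : (dual P).presheaf.stalk x), stalkLin q x θ = 0 →
      ∃ e, stalkLin P' x e = θ := by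
    intro x θ hθ
    have hker : LinearMap.ker (stalkLin p x) ≤ LinearMap.ker (evalStalk P O x θ) := by
      intro v hv
      obtain ⟨u, rfl⟩ := hex x v hv
      have h' := congrArg (fun t => evalStalk K' O x t u) hθ
      simp only [q, evalStalk_precomp, LinearMap.comp_apply, stalkMap_eq, map_zero,
        LinearMap.zero_apply] at h'
      exact h'
    let g := (Submodule.liftQ (LinearMap.ker (stalkLin p x)) (evalStalk P O x θ) hker).comp
      (LinearMap.quotKerEquivOfSurjective (stalkLin p x) (stalkLin_epi p x)).symm.toLinearMap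
    have hg : ∀ v, g (stalkLin p x v) = evalStalk P O x θ v := by
      intro v
      have e1 : (LinearMap.quotKerEquivOfSurjective (stalkLin p x) (stalkLin_epi p x)).symm
          (stalkLin p x v) = Submodule.Quotient.mk v :=
        (LinearEquiv.symm_apply_eq _).2 rfl
      show Submodule.liftQ _ _ hker _ = _
      erw [e1]
      rfl
    obtain ⟨e, he⟩ := ((HomSh.hasRel_of_isCoh hEd).evalStalk_bijective O x).2 g
    refine ⟨e, ((HomSh.hasRel_of_isCoh hP).evalStalk_bijective O x).1 (LinearMap.ext fun v => ?_)⟩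
    rw [evalStalk_precomp, LinearMap.comp_apply, stalkMap_eq, he, hg]
  haveI : Mono i := by
    have : Mono P' := (OX.mono_iff P').2 fun x => (ModuleCat.mono_iff_injective _).2 (hP'inj x)
    infer_instance
  have hse : (ShortComplex.mk i π w).ShortExact := by
    refine ShortComplex.ShortExact.mk' ?_ (by assumption) (by show Epi π; infer_instance)
    rw [OX.exact_iff]
    intro x
    rw [ShortComplex.moduleCat_exact_iff]
    intro θ hθ
    obtain ⟨e, he⟩ := hexact x θ (by
      have h2 : stalkLin (π ≫ Abelian.image.ι q) x θ = 0 := by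
        rw [stalkLin_comp, show stalkLin π x θ = 0 from hθ, map_zero]
      rwa [Abelian.image.fac] at h2)
    refine ⟨stalkLin (inv (RefHull.bidualMap E)) x e, ?_⟩
    show stalkLin i x (stalkLin (inv (RefHull.bidualMap E)) x e) = θ
    rw [← stalkLin_comp, show inv (RefHull.bidualMap E) ≫ i = P' from IsIso.inv_hom_id_assoc _ _, he]
  have hE' : Coh.IsCoh (Abelian.image q) :=
    QCoh.isCoh_kernel _ hKd (QCoh.isCoh_cokernel q hPd hKd)
  refine ⟨Abelian.image q, i, π, w, Abelian.image.ι q, hse, inferInstance, hE', fun hEf => ?_⟩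
  intro x
  -- the stalk of the dual of `E` is free, so `p` splits on stalks
  obtain ⟨U, n, fr, hx, hfr⟩ := FinCov.exists_frame_nhd (DualTensor11.isFinLocFree_dual hEf) x
  obtain ⟨bd⟩ := Euler.stalk_basis_of_frame hfr hx
  let s : (dual E).presheaf.stalk x →ₗ[X.presheaf.stalk x] P.presheaf.stalk x :=
    bd.constr (X.presheaf.stalk x) fun l => (stalkLin_epi p x (bd l)).choose
  have hs : ∀ v, stalkLin p x (s v) = v := fun v => by
    have : (stalkLin p x).comp s = LinearMap.id := bd.ext fun l => by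
      show stalkLin p x (s (bd l)) = _
      rw [Module.Basis.constr_basis]
      exact (stalkLin_epi p x (bd l)).choose_spec
    exact LinearMap.congr_fun this v
  -- retraction of `P'` on the stalk
  let evE := LinearEquiv.ofBijective _ ((HomSh.hasRel_of_isCoh hEd).evalStalk_bijective O x)
  let rf : (dual P).presheaf.stalk x →ₗ[X.presheaf.stalk x] (RefHull.ddual E).presheaf.stalk x :=
    evE.symm.toLinearMap.comp ((LinearMap.lcomp _ _ s).comp (evalStalk P O x))
  let r : (dual P).presheaf.stalk x →ₗ[X.presheaf.stalk x] E.presheaf.stalk x :=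
    (stalkLin (inv (RefHull.bidualMap E)) x).comp rf
  have hr : ∀ v, r (stalkLin i x v) = v := by
    intro v
    have e1 : rf (stalkLin P' x (stalkLin (RefHull.bidualMap E) x v)) = stalkLin (RefHull.bidualMap E) x v := by
      refine evE.symm_apply_eq.2 (LinearMap.ext fun t => ?_)
      show evalStalk P O x _ (s t) = evalStalk (dual E) O x _ t
      rw [evalStalk_precomp, LinearMap.comp_apply, stalkMap_eq, hs]
    show stalkLin _ x (rf (stalkLin i x v)) = v
    rw [stalkLin_comp, e1, ← stalkLin_comp, IsIso.hom_inv_id]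
    obtain ⟨V, hV, m, rfl⟩ := TopCat.Presheaf.exists_germ_eq E.presheaf v
    rw [stalkLin_germ]
    rfl
  haveI := QCoh.stalk_finite (Abelian.image q) hE' x
  haveI := QCoh.stalk_finite (dual P) hPd x
  have hfree : Module.Free (X.presheaf.stalk x) ((dual P).presheaf.stalk x) →
      Nonempty (Module.Free (X.presheaf.stalk x) ((Abelian.image q).presheaf.stalk x)) := by
    intro hf
    haveI := hf
    have hsurj := stalkLin_epi π x
    have hexx : LinearMap.ker (stalkLin π x) = LinearMap.range (stalkLin i x) := by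
      refine le_antisymm (fun θ hθ => ?_) ?_
      · exact (ShortComplex.moduleCat_exact_iff _).1 (hse.exact.map (OX.stalk x)) θ hθ
      · rintro _ ⟨v, rfl⟩
        rw [LinearMap.mem_ker, ← stalkLin_comp, w]
        obtain ⟨V, hV, m, rfl⟩ := TopCat.Presheaf.exists_germ_eq E.presheaf v
        rw [stalkLin_germ]
        exact map_zero _
    obtain ⟨σ, hσ⟩ : ∃ σ : (Abelian.image q).presheaf.stalk x →ₗ[X.presheaf.stalk x]
        (dual P).presheaf.stalk x, (stalkLin π x).comp σ = LinearMap.id := by
      let c : (dual P).presheaf.stalk x →ₗ[X.presheaf.stalk x] (dual P).presheaf.stalk x :=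
        LinearMap.id - (stalkLin i x).comp r
      have hc : LinearMap.ker (stalkLin π x) ≤ LinearMap.ker c := by
        rw [hexx]
        rintro _ ⟨v, rfl⟩
        simp [c, hr]
      refine ⟨(Submodule.liftQ _ c hc).comp
        (LinearMap.quotKerEquivOfSurjective (stalkLin π x) hsurj).symm.toLinearMap, LinearMap.ext fun z => ?_⟩
      obtain ⟨z, rfl⟩ := hsurj z
      have e1 : (LinearMap.quotKerEquivOfSurjective (stalkLin π x) hsurj).symm (stalkLin π x z)
          = Submodule.Quotient.mk z := (LinearEquiv.symm_apply_eq _).2 rfl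
      show stalkLin π x (Submodule.liftQ _ c hc _) = stalkLin π x z
      erw [e1]
      show stalkLin π x (z - stalkLin i x (r z)) = _
      have : stalkLin π x (stalkLin i x (r z)) = 0 :=
        LinearMap.mem_ker.1 (hexx.ge ⟨r z, rfl⟩)
      rw [map_sub, this, sub_zero]
    haveI : Module.Projective (X.presheaf.stalk x) ((Abelian.image q).presheaf.stalk x) :=
      Module.Projective.of_split σ (stalkLin π x) hσ
    exact ⟨Module.free_of_flat_of_isLocalRing⟩
  -- the stalk of `dual P` is free
  suffices hf : Module.Free (X.presheaf.stalk x) ((dual P).presheaf.stalk x) by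
    obtain ⟨hf'⟩ := hfree hf
    haveI := hf'
    obtain ⟨D, e, hxD, he⟩ :=
      Euler.exists_frame_of_stalk_basis hE' (Module.finBasis (X.presheaf.stalk x) _)
    exact ⟨D, _, hxD, FinCov.exists_iso_of_frame he⟩
  obtain ⟨U', n', fr', hx', hfr'⟩ := FinCov.exists_frame_nhd (DualTensor11.isFinLocFree_dual hPl) x
  obtain ⟨bd'⟩ := Euler.stalk_basis_of_frame hfr' hx'
  exact Module.Free.of_basis bd'

theorem main [CompactSpace X] [QuasiSeparatedSpace X] {L E : X.Modules} (hL : CohB1.IsAmple L)
    (hE : Coh.IsCoh E) (hEr : ∀ x, RefHull.IsReflexiveAt E x) :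
    ∃ (q r q' r' : ℕ) (E' : X.Modules) (i : E ⟶ ∐ fun _ : Fin r => CohB1.tensorPow L q)
      (π : (∐ fun _ : Fin r => CohB1.tensorPow L q) ⟶ E') (w : i ≫ π = 0)
      (i' : E' ⟶ ∐ fun _ : Fin r' => CohB1.tensorPow L q'),
      1 ≤ r ∧ 1 ≤ r' ∧ (ShortComplex.mk i π w).ShortExact ∧ Mono i' ∧ Coh.IsCoh E' ∧
        (FlatMod.IsFinLocFree E → FlatMod.IsFinLocFree E') := by
  have hd := isInvertible_dual hL.1
  have hinv := isInverseOf_dual hL.1
  have hEd := HomSh.isCoh_dual (HomSh.hasRel_of_isCoh hE)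
  have hO := HomSh.isCoh_structureModule X
  let T := fun (b a : ℕ) => CohB1.tensorMod (FlatMod.freeMod X b) (CohB1.tensorPow (dual L) a)
  have hTl : ∀ b a, FlatMod.IsFinLocFree (T b a) := fun b a => RelVan7.isFinLocFree_twists hd b a
  -- a nonzero number of summands
  have surj : ∀ {M : X.Modules}, Coh.IsCoh M → ∃ (b a : ℕ) (q : T b a ⟶ M), 1 ≤ b ∧ Epi q := by
    intro M hM
    obtain ⟨b, a, q, hq⟩ := RelVan7.exists_epi_twists hL hinv hd hM
    let t : ∀ b, T b a ≅ ∐ fun _ : Fin b => CohB1.tensorMod O (CohB1.tensorPow (dual L) a) :=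
      fun b => CMReg.tensorSigmaIso (fun _ : Fin b => O) _
    let r : T (b + 1) a ⟶ T b a :=
      (t (b + 1)).hom ≫ Sigma.desc (Fin.lastCases 0 fun l => Sigma.ι (fun _ : Fin b => _) l) ≫ (t b).inv
    haveI : Epi r := by
      let sct : T b a ⟶ T (b + 1) a :=
        (t b).hom ≫ Sigma.desc (fun l => Sigma.ι (fun _ : Fin (b + 1) => _) l.castSucc) ≫ (t (b + 1)).inv
      have hs : sct ≫ r = 𝟙 _ := by
        simp only [sct, r, Category.assoc, Iso.inv_hom_id_assoc]
        rw [← cancel_epi (t b).inv, Iso.inv_hom_id_assoc, Category.comp_id]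
        refine Sigma.hom_ext _ _ fun l => ?_
        simp
      exact (SplitEpi.mk sct hs).epi
    exact ⟨b + 1, a, r ≫ q, by omega, epi_comp _ _⟩
  obtain ⟨b, a, p, hb, hp⟩ := surj hEd
  have hTc : Coh.IsCoh (T b a) := Euler.isCoh_of_isFinLocFree (hTl b a)
  obtain ⟨b', a', p', hb', hp'⟩ := surj (QCoh.isCoh_kernel p hTc hEd)
  have hex : ∀ (x : X) (v : (T b a).presheaf.stalk x), stalkLin p x v = 0 →
      ∃ u, stalkLin (p' ≫ kernel.ι p) x u = v := by
    intro x v hv
    obtain ⟨u, hu⟩ := (ShortComplex.moduleCat_exact_iff _).1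
      ((ShortComplex.exact_kernel p : (ShortComplex.mk _ p (kernel.condition p)).Exact).map (OX.stalk x)) v hv
    obtain ⟨u', hu'⟩ := stalkLin_epi p' x u
    refine ⟨u', ?_⟩
    rw [stalkLin_comp, hu']
    exact hu
  obtain ⟨E', i, π, w, j, hse, hj, hE', hfree⟩ := exists_ses hE hTc
    (Euler.isCoh_of_isFinLocFree (hTl b' a')) (hTl b a) hEr p (p' ≫ kernel.ι p)
    (by rw [Category.assoc, kernel.condition, comp_zero]) hex
  obtain ⟨e⟩ := exists_dual_twists hL.1 b a
  obtain ⟨e'⟩ := exists_dual_twists hL.1 b' a'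
  refine ⟨a, b, a', b', E', i ≫ e.hom, e.inv ≫ π, by rw [Category.assoc, e.hom_inv_id_assoc, w],
    j ≫ e'.hom, hb, hb', ?_, inferInstance, hE', hfree⟩
  refine ShortComplex.shortExact_of_iso ?_ hse
  exact ShortComplex.isoMk (Iso.refl _) e (Iso.refl _) (by simp) (by simp)

end Groth.Agent.DualEmbed29
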